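import Mathlib

/-!
# Central endomorphisms on derived categories (helper5)

A natural endomorphism `z` of the identity functor of an abelian category `A` induces natural
endomorphisms of the identity functors of `CochainComplex A ℤ` and of `DerivedCategory A`.
These are compatible with exact functors, and for a linear category they recover scalar
multiplication.
-/

set_option autoImplicit false
open CategoryTheory Limits

namespace Groth.Agent.Lib.Helper5.DCenter

open DerivedCategory

universe w w' v v' u u'

variable {A : Type u} [Category.{v} A] [Abelian A]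

/-- the endomorphism of the identity functor of complexes induced by a central element -/
@[simps]
def centerC (z : 𝟭 A ⟶ 𝟭 A) : 𝟭 (CochainComplex A ℤ) ⟶ 𝟭 (CochainComplex A ℤ) where
  app K :=
    { f := fun i => z.app (K.X i)
      comm' := fun i j _ => (z.naturality (K.d i j)).symm }
  naturality K L φ := by
    ext i
    exact z.naturality (φ.f i)

variable [HasDerivedCategory.{w} A]

/-- the natural endomorphism of `Q` induced by a central element -/
noncomputable def centerQ (z : 𝟭 A ⟶ 𝟭 A) :
    (Q : CochainComplex A ℤ ⥤ DerivedCategory A) ⟶ Q where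
  app K := Q.map ((centerC z).app K)
  naturality K L φ := by
    rw [← Functor.map_comp, ← Functor.map_comp]
    congr 1
    exact (centerC z).naturality φ

/-- the endomorphism of the identity functor of the derived category induced by a central
element -/
noncomputable def centerD (z : 𝟭 A ⟶ 𝟭 A) :
    𝟭 (DerivedCategory A) ⟶ 𝟭 (DerivedCategory A) :=
  Localization.liftNatTrans Q (HomologicalComplex.quasiIso A (ComplexShape.up ℤ)) Q Q
    (𝟭 _) (𝟭 _) (centerQ z)

lemma centerD_app_Q (z : 𝟭 A ⟶ 𝟭 A) (K : CochainComplex A ℤ) :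
    (centerD z).app (Q.obj K) = Q.map ((centerC z).app K) := by
  dsimp only [centerD]
  rw [Localization.liftNatTrans_app]
  simp [centerQ, Localization.Lifting.iso]

/-- naturality, in the form used below -/
lemma centerD_comm (z : 𝟭 A ⟶ 𝟭 A) {K L : DerivedCategory A} (f : K ⟶ L) :
    f ≫ (centerD z).app L = (centerD z).app K ≫ f :=
  (centerD z).naturality f

lemma centerD_conj (z : 𝟭 A ⟶ 𝟭 A) {K L : DerivedCategory A} (e : K ≅ L) :
    (centerD z).app L = e.inv ≫ (centerD z).app K ≫ e.hom := by
  rw [← centerD_comm, Iso.inv_hom_id_assoc]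

section Exact

variable {B : Type u'} [Category.{v'} B] [Abelian B] [HasDerivedCategory.{w'} B]
  (F : A ⥤ B) [F.Additive] [PreservesFiniteLimits F] [PreservesFiniteColimits F]

/-- exact functors intertwining central elements intertwine the induced central elements of the
derived categories -/
theorem mapDerivedCategory_centerD (zA : 𝟭 A ⟶ 𝟭 A) (zB : 𝟭 B ⟶ 𝟭 B)
    (h : ∀ M : A, F.map (zA.app M) = zB.app (F.obj M)) (K : DerivedCategory A) :
    F.mapDerivedCategory.map ((centerD zA).app K) =
      (centerD zB).app (F.mapDerivedCategory.obj K) := by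
  obtain ⟨K₀, ⟨e⟩⟩ : ∃ K₀ : CochainComplex A ℤ, Nonempty (Q.obj K₀ ≅ K) :=
    ⟨_, ⟨Q.objObjPreimageIso K⟩⟩
  have key : F.mapDerivedCategory.map ((centerD zA).app (Q.obj K₀)) =
      (centerD zB).app (F.mapDerivedCategory.obj (Q.obj K₀)) := by
    rw [centerD_app_Q]
    have h1 : F.mapDerivedCategory.map (Q.map ((centerC zA).app K₀)) ≫
        F.mapDerivedCategoryFactors.hom.app K₀ =
        F.mapDerivedCategoryFactors.hom.app K₀ ≫
          Q.map ((F.mapHomologicalComplex (ComplexShape.up ℤ)).map ((centerC zA).app K₀)) :=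
      F.mapDerivedCategoryFactors.hom.naturality ((centerC zA).app K₀)
    have h2 : (F.mapHomologicalComplex (ComplexShape.up ℤ)).map ((centerC zA).app K₀) =
        (centerC zB).app ((F.mapHomologicalComplex (ComplexShape.up ℤ)).obj K₀) := by
      ext i
      exact h (K₀.X i)
    have h3 : F.mapDerivedCategoryFactors.hom.app K₀ ≫
        (centerD zB).app (Q.obj ((F.mapHomologicalComplex (ComplexShape.up ℤ)).obj K₀)) =
        (centerD zB).app (F.mapDerivedCategory.obj (Q.obj K₀)) ≫
          F.mapDerivedCategoryFactors.hom.app K₀ :=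
      centerD_comm zB (F.mapDerivedCategoryFactors.hom.app K₀)
    rw [← cancel_mono (F.mapDerivedCategoryFactors.hom.app K₀), h1, h2, ← centerD_app_Q]
    exact h3
  rw [centerD_conj zA e, Functor.map_comp, Functor.map_comp, key,
    centerD_conj zB (F.mapDerivedCategory.mapIso e)]
  rfl

end Exact

section Linear

variable {R : Type*} [Ring R] [Linear R A]

/-- for a linear category, the central element of the derived category induced by `r • 𝟙` is
`r • 𝟙` -/
theorem centerD_eq_smul (z : 𝟭 A ⟶ 𝟭 A) (r : R) (h : ∀ M : A, z.app M = r • 𝟙 M)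
    (K : DerivedCategory A) : (centerD z).app K = r • 𝟙 K := by
  obtain ⟨K₀, ⟨e⟩⟩ : ∃ K₀ : CochainComplex A ℤ, Nonempty (Q.obj K₀ ≅ K) :=
    ⟨_, ⟨Q.objObjPreimageIso K⟩⟩
  have h1 : (centerC z).app K₀ = r • 𝟙 K₀ := by
    ext i
    rw [centerC_app_f, HomologicalComplex.smul_f_apply, HomologicalComplex.id_f]
    exact h _
  have h2 : Q.map (r • 𝟙 K₀) = r • 𝟙 (Q.obj K₀) := by
    rw [Functor.map_smul]
    congr 1
    exact Q.map_id K₀
  rw [centerD_conj z e, centerD_app_Q, h1, h2,
    Linear.smul_comp, Linear.comp_smul, Category.id_comp, Iso.inv_hom_id]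

end Linear

end Groth.Agent.Lib.Helper5.DCenter
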