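import Mathlib
import Groth.Prelude.Def_KLin
import Groth.Prelude.Def_DCoh3
import Groth.Prelude.Def_CxOX
import Groth.Agent.Lib.Helper5.DCenter.Basic

/-!
# Multiplication by global functions as central elements of `D(O_X)` (helper5)
-/

set_option autoImplicit false
universe u
open CategoryTheory Limits AlgebraicGeometry Opposite TopologicalSpace
attribute [local instance] HasDerivedCategory.standard

namespace Groth.Agent.Lib.Helper5.DCenter

variable {X : Scheme.{u}}

/-- multiplication by a global function as a central element of `X.Modules` -/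
noncomputable def mulΓ (r : Coh.Γtop X) : 𝟭 X.Modules ⟶ 𝟭 X.Modules where
  app M := Formal.smulModΓ M r
  naturality M N f := KLin.comp_smulModΓ f r

@[simp] lemma mulΓ_app (r : Coh.Γtop X) (M : X.Modules) : (mulΓ r).app M = Formal.smulModΓ M r :=
  rfl

/-- multiplication by a global function as a central element of `D(O_X)` -/
noncomputable abbrev mulΓD (r : Coh.Γtop X) : 𝟭 (DCoh.D X) ⟶ 𝟭 (DCoh.D X) := centerD (mulΓ r)

/-- relation with the linear structure over a base ring -/
theorem smul_id_eq (A : Type u) [CommRing A] [X.Over (Spec (CommRingCat.of A))] (a : A)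
    (K : DCoh.D X) :
    a • 𝟙 K = (mulΓD (Coh.toGlobal (X ↘ Spec (CommRingCat.of A)) a)).app K :=
  (centerD_eq_smul (mulΓ (Coh.toGlobal (X ↘ Spec (CommRingCat.of A)) a)) a
    (fun M => (KLin.smul_id M a).symm) K).symm

theorem smul_eq_comp (A : Type u) [CommRing A] [X.Over (Spec (CommRingCat.of A))] (a : A)
    {K L : DCoh.D X} (f : K ⟶ L) :
    a • f = f ≫ (mulΓD (Coh.toGlobal (X ↘ Spec (CommRingCat.of A)) a)).app L := by
  rw [← smul_id_eq, Linear.comp_smul, Category.comp_id]

section Restrict

variable {V : Scheme.{u}} (j : V ⟶ X) [IsOpenImmersion j]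

theorem restrict_mulΓ (r : Coh.Γtop X) (M : X.Modules) :
    (Scheme.Modules.restrictFunctor j).map ((mulΓ r).app M) =
      (mulΓ (j.appTop.hom r)).app ((Scheme.Modules.restrictFunctor j).obj M) := by
  refine Scheme.Modules.hom_ext _ _ fun W => ?_
  ext m
  change (Formal.smulModΓ M r).app (j ''ᵁ W) m =
    (Formal.smulModΓ (M.restrict j) (j.appTop.hom r)).app W m
  rw [KLin.smulModΓ_app_apply, KLin.smulModΓ_app_apply]
  change _ = ((j.appIso W).inv (V.presheaf.map (homOfLE (le_top : W ≤ ⊤)).op (j.appTop.hom r))) •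
    (show ↑Γ(M, j ''ᵁ W) from m)
  congr 1
  have h : X.presheaf.map (homOfLE (le_top : j ''ᵁ W ≤ ⊤)).op ≫ (j.appIso W).hom =
      j.appTop ≫ V.presheaf.map (homOfLE (le_top : W ≤ ⊤)).op := by
    rw [Scheme.Hom.appIso_hom']
    simp [Scheme.Hom.appTop, Scheme.Hom.app_eq_appLE, Scheme.Hom.appLE_map, Scheme.Hom.map_appLE]
  have h2 := congr($(h).hom r)
  simp only [CommRingCat.hom_comp, RingHom.comp_apply] at h2
  rw [← h2]
  exact ((j.appIso W).hom_inv_id_apply _).symm

/-- restriction to an open intertwines the central elements -/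
theorem restrictD_mulΓD (r : Coh.Γtop X) (K : DCoh.D X) :
    (DCoh.restrictD j).map ((mulΓD r).app K) =
      (mulΓD (j.appTop.hom r)).app ((DCoh.restrictD j).obj K) :=
  mapDerivedCategory_centerD (Scheme.Modules.restrictFunctor j) (mulΓ r) (mulΓ (j.appTop.hom r))
    (restrict_mulΓ j r) K

end Restrict

section Tilde

variable (R : CommRingCat.{u})

/-- scalar multiplication as a central element of `ModuleCat R` -/
noncomputable def mulR (r₀ : R) : 𝟭 (ModuleCat.{u} R) ⟶ 𝟭 (ModuleCat.{u} R) where
  app N := r₀ • 𝟙 N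
  naturality M N f := by
    dsimp
    rw [Linear.comp_smul, Linear.smul_comp, Category.comp_id, Category.id_comp]

/-- an element of `R` as a global function on `Spec R` -/
noncomputable def specΓ (r₀ : R) : Coh.Γtop (Spec (CommRingCat.of R)) :=
  (Scheme.ΓSpecIso R).inv.hom r₀

theorem tilde_mulR (r₀ : R) (N : ModuleCat.{u} R) :
    (tilde.functor R).map ((mulR R r₀).app N) =
      (mulΓ (specΓ R r₀)).app ((tilde.functor R).obj N) := by
  apply ((tilde.adjunction (R := R)).homEquiv _ _).injective
  rw [Adjunction.homEquiv_unit, Adjunction.homEquiv_unit]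
  have h1 := (tilde.adjunction (R := R)).unit.naturality ((mulR R r₀).app N)
  dsimp only [Functor.id_map, Functor.comp_map] at h1
  rw [← h1]
  have h2 : (moduleSpecΓFunctor (R := R)).map
      ((mulΓ (specΓ R r₀)).app ((tilde.functor R).obj N)) =
      r₀ • 𝟙 _ := by
    ext m
    rfl
  rw [h2]
  dsimp only [mulR]
  rw [Linear.comp_smul, Linear.smul_comp]
  simp

/-- the derived tilde functor intertwines scalar multiplication and the central elements -/
theorem tildeD_smul [PreservesFiniteLimits (tilde.functor R)] (r₀ : R)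
    (M : DerivedCategory (ModuleCat.{u} R)) :
    (DCoh.tildeD R).map (r₀ • 𝟙 M) =
      (mulΓD (specΓ R r₀)).app ((DCoh.tildeD R).obj M) := by
  rw [← centerD_eq_smul (mulR R r₀) r₀ (fun N => rfl) M]
  exact mapDerivedCategory_centerD (tilde.functor R) (mulR R r₀) (mulΓ (specΓ R r₀))
    (tilde_mulR R r₀) M

end Tilde

end Groth.Agent.Lib.Helper5.DCenter
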