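import Mathlib
import Groth.Agent.Lib.Helper5.DCenter.Sch
import Groth.Agent.Lib.Helper5.BvdB.ShriekCpt
import Groth.Agent.Lib.Helper5.BvdB.TildeTors
import Groth.Agent.Lib.Helper5.BvdB.KoszulRing
import Groth.Agent.Lib.Helper5.BvdB.GenSupp

/-!
# Maps from perfect objects to objects of `D_QCoh` supported on `V(a)` are killed by a power
of `a` (helper5)
-/

set_option autoImplicit false
set_option linter.unusedSectionVars false
set_option linter.unusedVariables false
universe u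
open CategoryTheory CategoryTheory.Limits AlgebraicGeometry Pretriangulated TopologicalSpace
attribute [local instance] HasDerivedCategory.standard

namespace Groth.Agent.Lib.Helper5.DCenter

open Groth.Agent.Lib.Helper5 Helper5.Gen Groth.Agent.Lib.Helper5.QC
  Groth.Agent.Lib.Helper5.TildePC Groth.Agent.Lib.Helper5.PerfTri
  Groth.Agent.Lib.Helper5.CountHom Groth.Agent.Lib.Helper5.HomVanish
  Groth.Agent.Lib.Helper5.BvdB Groth.Agent.Lib.Helper5.MVShriek Groth.Agent.Lib.Helper5.MV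

section Spec

variable (R : CommRingCat.{u})

/-- the case of an affine scheme `Spec R` -/
theorem kill_spec (f : R) (F G : DCoh.D (Spec (CommRingCat.of R))) (hF : DCoh.IsPerfect F)
    (hG : DCoh.IsQCohD G)
    (hsupp : VanishOn G
      {x : Spec (CommRingCat.of R) | f ∉ (x : PrimeSpectrum.Top R).asIdeal})
    (β : F ⟶ G) : ∃ n : ℕ, β ≫ (mulΓD (specΓ R (f ^ n))).app G = 0 := by
  haveI : PreservesFiniteLimits (tilde.functor R) :=
    Groth.Agent.Lib.Helper5.QC.preservesFiniteLimits_tilde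
  obtain ⟨P, ⟨eP⟩⟩ := ((tildeD_main R).2.2 F).1 (isQCohD_of_isPerfect F hF)
  obtain ⟨M, ⟨eM⟩⟩ := ((tildeD_main R).2.2 G).1 hG
  haveI : (DCoh.tildeD R).Full := (tildeD_main R).1
  have hP : DRing.IsPerfect R P := (isPerfect_tildeD_iff R P).1 (isPerfect_of_iso eP.symm hF)
  have hM : PowTors f M := powTors_of_vanishOn R M f (hsupp.of_iso eM.symm)
  obtain ⟨ψ, hψ⟩ := (DCoh.tildeD R).map_surjective (eP.hom ≫ β ≫ eM.inv)
  obtain ⟨n, hn⟩ := exists_pow_smul_eq_zero f P hP M hM ψ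
  refine ⟨n, ?_⟩
  have hβ : β = eP.inv ≫ (DCoh.tildeD R).map ψ ≫ eM.hom := by
    rw [hψ]
    simp
  have h1 : ψ ≫ ((f ^ n) • 𝟙 M) = 0 := by
    rw [Linear.comp_smul, Category.comp_id, hn]
  rw [hβ, Category.assoc, Category.assoc, centerD_comm, ← tildeD_smul, ← Functor.map_comp_assoc,
    h1, Functor.map_zero, zero_comp, comp_zero]

end Spec

section Affine

variable {U : Scheme.{u}} [IsAffine U]

/-- the case of an affine scheme -/
theorem kill_affine (r : Coh.Γtop U) (F G : DCoh.D U) (hF : DCoh.IsPerfect F)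
    (hG : DCoh.IsQCohD G)
    (hsupp : VanishOn G ((U.basicOpen (U := ⊤) (show Γ(U, ⊤) from r) : U.Opens) : Set U))
    (β : F ⟶ G) : ∃ n : ℕ, β ≫ (mulΓD (r ^ n)).app G = 0 := by
  let R : CommRingCat.{u} := Γ(U, ⊤)
  let φ : Spec (CommRingCat.of R) ≅ U := U.isoSpec.symm
  haveI : (DCoh.restrictD φ.hom).IsEquivalence := inferInstance
  let f : R := (Scheme.ΓSpecIso R).hom.hom (φ.hom.appTop.hom r)
  have hf : ∀ n : ℕ, specΓ R (f ^ n) = φ.hom.appTop.hom (r ^ n) := by
    intro n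
    have h0 : (show Γ(U, ⊤) from (r ^ n)) = (show Γ(U, ⊤) from r) ^ n := rfl
    change (Scheme.ΓSpecIso R).inv.hom (f ^ n) = φ.hom.appTop.hom (show Γ(U, ⊤) from (r ^ n))
    rw [h0, map_pow, map_pow]
    congr 1
    exact Iso.hom_inv_id_apply (Scheme.ΓSpecIso R) _
  have hsupp' : VanishOn ((DCoh.restrictD φ.hom).obj G)
      {x : Spec (CommRingCat.of R) | f ∉ (x : PrimeSpectrum.Top R).asIdeal} := by
    rw [vanishOn_restrictD_iff]
    refine hsupp.mono ?_
    rintro _ ⟨x, hx, rfl⟩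
    have h1 : x ∈ φ.hom ⁻¹ᵁ (U.basicOpen (U := ⊤) (show Γ(U, ⊤) from r)) := by
      rw [Scheme.preimage_basicOpen_top, basicOpen_eq_of_affine']
      exact hx
    exact h1
  obtain ⟨n, hn⟩ := kill_spec R f _ _ (isPerfect_restrictJ φ.hom F hF)
    (isQCohD_restrictJ φ.hom G hG) hsupp' ((DCoh.restrictD φ.hom).map β)
  refine ⟨n, ?_⟩
  apply (DCoh.restrictD φ.hom).map_injective
  rw [Functor.map_comp, restrictD_mulΓD, ← hf, hn, Functor.map_zero]

end Affine

section MV

variable {X : Scheme.{u}} (A : Type u) [CommRing A] [X.Over (Spec (CommRingCat.of A))] (a : A)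

attribute [local instance] preservesFiniteLimits_extZero

/-- the global function attached to `a` -/
noncomputable abbrev gf : Coh.Γtop X := Coh.toGlobal (X ↘ Spec (CommRingCat.of A)) a

/-- the non-vanishing locus of `a` -/
noncomputable abbrev nzl : X.Opens := X.basicOpen (U := ⊤) (show Γ(X, ⊤) from gf A a)

/-- the targets: objects of `D_QCoh` supported on `V(a)` -/
def Tgt (E' : DCoh.D X) : Prop := DCoh.IsQCohD E' ∧ VanishOn E' (nzl (X := X) A a : Set X)

variable {A a} in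
lemma Tgt.shift {E' : DCoh.D X} (h : Tgt A a E') (n : ℤ) : Tgt A a (E'⟦n⟧) :=
  ⟨isQCohD_shift E' h.1 n, VanishOn.shift _ h.2 n⟩

lemma smul_eq_zero_of_le {K L : DCoh.D X} (α : K ⟶ L) {n m : ℕ} (h : (a ^ n) • α = 0)
    (hnm : n ≤ m) : (a ^ m) • α = 0 := by
  obtain ⟨k, rfl⟩ := Nat.exists_eq_add_of_le hnm
  rw [pow_add, mul_comm, mul_smul, h, smul_zero]

variable (K : CochainComplex X.Modules ℤ)

/-- the property propagated by the induction -/
def PKill (O : X.Opens) : Prop :=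
  ∀ E' : DCoh.D X, Tgt A a E' → ∀ α : DerivedCategory.Q.obj ((LC O).obj K) ⟶ E',
    ∃ n : ℕ, (a ^ n) • α = 0

theorem pKill_base (hK : DCoh.IsPerfect (DerivedCategory.Q.obj K)) (O : X.Opens)
    (hO : IsAffineOpen O) : PKill A a K O := by
  haveI : IsAffine (O : Scheme.{u}) := hO
  intro E' hE' α
  let F : DCoh.D (O : Scheme.{u}) := (DCoh.restrictD O.ι).obj (DerivedCategory.Q.obj K)
  let e : DerivedCategory.Q.obj ((LC O).obj K) ≅ (CxOX.extZeroD O.ι).obj F :=
    vertexIso K O _ (Iso.refl _)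
  let α' : (CxOX.extZeroD O.ι).obj F ⟶ E' := e.inv ≫ α
  let β : F ⟶ (DCoh.restrictD O.ι).obj E' := (shriekAdj O).homEquiv F E' α'
  let r : Coh.Γtop (O : Scheme.{u}) := O.ι.appTop.hom (gf A a)
  have hsupp : VanishOn ((DCoh.restrictD O.ι).obj E')
      (((O : Scheme.{u}).basicOpen (U := ⊤) (show Γ((O : Scheme.{u}), ⊤) from r) :
        (O : Scheme.{u}).Opens) : Set (O : Scheme.{u})) := by
    rw [vanishOn_restrictD_iff]
    refine hE'.2.mono ?_
    rintro _ ⟨x, hx, rfl⟩
    have h1 : x ∈ O.ι ⁻¹ᵁ (nzl (X := X) A a) := by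
      rw [Scheme.preimage_basicOpen_top]
      exact hx
    exact h1
  obtain ⟨n, hn⟩ := kill_affine r F _ (isPerfect_restrictJ O.ι _ hK)
    (isQCohD_restrictJ O.ι E' hE'.1) hsupp β
  refine ⟨n, ?_⟩
  have hr : O.ι.appTop.hom (gf A (a ^ n)) = r ^ n := by
    have h0 : (show Γ(X, ⊤) from (gf A (a ^ n))) = (show Γ(X, ⊤) from gf A a) ^ n :=
      map_pow (Coh.toGlobal (X ↘ Spec (CommRingCat.of A))) a n
    change O.ι.appTop.hom (show Γ(X, ⊤) from (gf A (a ^ n))) = _
    rw [h0, map_pow]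
    rfl
  have h2 : (a ^ n) • α' = 0 := by
    rw [smul_eq_comp]
    apply ((shriekAdj O).homEquiv F E').injective
    rw [Adjunction.homEquiv_naturality_right, restrictD_mulΓD, hr]
    rw [Adjunction.homEquiv_unit (f := (0 : (CxOX.extZeroD O.ι).obj F ⟶ E')), Functor.map_zero,
      comp_zero]
    exact hn
  have h3 : α = e.hom ≫ α' := by
    dsimp only [α']
    rw [Iso.hom_inv_id_assoc]
  rw [h3, ← Linear.comp_smul, h2, comp_zero]

theorem pKill_mv (T U V W : X.Opens) (D : MVData T U V W) (hU : PKill A a K U)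
    (hV : PKill A a K V) (hW : PKill A a K W) : PKill A a K T := by
  intro E' hE' α
  have hS := shCx_shortExact D K
  have hT := DerivedCategory.triangleOfSES_distinguished hS
  -- kill the restriction to the middle vertex
  let x : DerivedCategory.Q.obj ((LC U).obj K ⊞ (LC V).obj K) ⟶ E' :=
    DerivedCategory.Q.map (shCx D K).g ≫ α
  obtain ⟨nU, hnU⟩ := hU E' hE' (DerivedCategory.Q.map biprod.inl ≫ x)
  obtain ⟨nV, hnV⟩ := hV E' hE' (DerivedCategory.Q.map biprod.inr ≫ x)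
  have hid1 : DerivedCategory.Q.map (biprod.fst : (LC U).obj K ⊞ (LC V).obj K ⟶ _) ≫
        DerivedCategory.Q.map biprod.inl +
      DerivedCategory.Q.map (biprod.snd : (LC U).obj K ⊞ (LC V).obj K ⟶ _) ≫
        DerivedCategory.Q.map biprod.inr = 𝟙 _ := by
    rw [← Functor.map_comp, ← Functor.map_comp, ← Functor.map_add, biprod.total,
      CategoryTheory.Functor.map_id]
  have h1 : (a ^ (nU + nV)) • x = 0 := by
    have hx : x = DerivedCategory.Q.map biprod.fst ≫ (DerivedCategory.Q.map biprod.inl ≫ x) +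
        DerivedCategory.Q.map biprod.snd ≫ (DerivedCategory.Q.map biprod.inr ≫ x) := by
      rw [← Category.assoc, ← Category.assoc _ _ x, ← Preadditive.add_comp, hid1,
        Category.id_comp]
    have hU' := smul_eq_zero_of_le A a _ hnU (Nat.le_add_right nU nV)
    have hV' := smul_eq_zero_of_le A a _ hnV (Nat.le_add_left nV nU)
    have hA : (a ^ (nU + nV)) • (DerivedCategory.Q.map
        (biprod.fst : (LC U).obj K ⊞ (LC V).obj K ⟶ _) ≫
          (DerivedCategory.Q.map biprod.inl ≫ x)) = 0 := by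
      rw [← Linear.comp_smul, hU', comp_zero]
    have hB : (a ^ (nU + nV)) • (DerivedCategory.Q.map
        (biprod.snd : (LC U).obj K ⊞ (LC V).obj K ⟶ _) ≫
          (DerivedCategory.Q.map biprod.inr ≫ x)) = 0 := by
      rw [← Linear.comp_smul, hV', comp_zero]
    rw [hx, smul_add, hA, hB, add_zero]
  have h2 : (DerivedCategory.triangleOfSES hS).mor₂ ≫ ((a ^ (nU + nV)) • α) = 0 := by
    have h5 : DerivedCategory.Q.map (shCx D K).g ≫ ((a ^ (nU + nV)) • α) =
        (a ^ (nU + nV)) • x := Linear.comp_smul _ _ _ _ _ _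
    exact h5.trans h1
  obtain ⟨γ, hγ⟩ := Triangle.yoneda_exact₃ _ hT ((a ^ (nU + nV)) • α) h2
  -- kill `γ` using the property for `W` and the shifted target
  let P : DCoh.D X := DerivedCategory.Q.obj ((LC W).obj K)
  let γ₀ : P⟦(1 : ℤ)⟧ ⟶ E' := γ
  let iso := shiftFunctorCompIsoId (DCoh.D X) (1 : ℤ) (-1) (by norm_num)
  let γ' : P ⟶ E'⟦(-1 : ℤ)⟧ := iso.inv.app P ≫ γ₀⟦(-1 : ℤ)⟧'
  obtain ⟨nW, hnW⟩ := hW (E'⟦(-1 : ℤ)⟧) (hE'.shift (-1)) γ'
  have h3 : (a ^ nW) • γ₀ = 0 := by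
    apply (shiftFunctor (DCoh.D X) (-1 : ℤ)).map_injective
    rw [Functor.map_smul, Functor.map_zero]
    have h6 : γ₀⟦(-1 : ℤ)⟧' = iso.hom.app P ≫ γ' := by
      dsimp only [γ']
      rw [Iso.hom_inv_id_app_assoc]
    rw [h6, ← Linear.comp_smul, hnW, comp_zero]
  have h7 : (a ^ nW) • ((DerivedCategory.triangleOfSES hS).mor₃ ≫ γ) = 0 := by
    have h8 := Linear.comp_smul _ _ _ (DerivedCategory.triangleOfSES hS).mor₃ (a ^ nW) γ
    rw [← h8]
    have h9 : (a ^ nW) • γ = 0 := h3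
    rw [h9, comp_zero]
  refine ⟨nU + nV + nW, ?_⟩
  rw [pow_add, mul_comm, mul_smul, hγ]
  exact h7

/-- **maps from a perfect object to an object of `D_QCoh` supported on `V(a)` are killed by a
power of `a`** -/
theorem exists_pow_smul_eq_zero [CompactSpace X] [QuasiSeparatedSpace X] {E E' : DCoh.D X}
    (hE : DCoh.IsPerfect E) (hE' : Tgt A a E') (α : E ⟶ E') : ∃ n : ℕ, (a ^ n) • α = 0 := by
  let K : CochainComplex X.Modules ℤ := DerivedCategory.Q.objPreimage E
  let eE : DerivedCategory.Q.obj K ≅ E := DerivedCategory.Q.objObjPreimageIso E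
  have hK : DCoh.IsPerfect (DerivedCategory.Q.obj K) := isPerfect_of_iso eE.symm hE
  have h := qcqs_induction (PKill A a K) (pKill_base A a K hK) (pKill_mv A a K) (⊤ : X.Opens)
    (by simpa using isCompact_univ)
  let e : DerivedCategory.Q.obj ((LC (⊤ : X.Opens)).obj K) ≅ E :=
    DerivedCategory.Q.mapIso (topIso K) ≪≫ eE
  obtain ⟨n, hn⟩ := h E' hE' (e.hom ≫ α)
  refine ⟨n, ?_⟩
  rw [← Linear.comp_smul] at hn
  exact (cancel_epi e.hom).1 (hn.trans comp_zero.symm)

end MV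

end Groth.Agent.Lib.Helper5.DCenter
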